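import Mathlib

set_option autoImplicit false
universe v u

namespace Groth.Agent.Lib.Helper5.PicFree

open CategoryTheory MonoidalCategory

variable (A : Type u) [Category.{v} A] [MonoidalCategory A] [SymmetricCategory A]

set_option genSizeOfSpec false in
set_option genInjectivity false in
/-- objects of the free Picard groupoid on a symmetric monoidal category -/
inductive PObj : Type u
  | of : A → PObj
  | unit : PObj
  | tensor : PObj → PObj → PObj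
  | inv : PObj → PObj

variable {A}

/-- formal morphisms -/
inductive PHom : PObj A → PObj A → Type (max u v)
  | id (X) : PHom X X
  | comp {X Y Z} (f : PHom X Y) (g : PHom Y Z) : PHom X Z
  | inv {X Y} (f : PHom X Y) : PHom Y X
  | α_hom (X Y Z : PObj A) : PHom ((X.tensor Y).tensor Z) (X.tensor (Y.tensor Z))
  | l_hom (X : PObj A) : PHom (PObj.unit.tensor X) X
  | ρ_hom (X : PObj A) : PHom (X.tensor PObj.unit) X
  | whiskerLeft (X : PObj A) {Y₁ Y₂} (f : PHom Y₁ Y₂) : PHom (X.tensor Y₁) (X.tensor Y₂)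
  | whiskerRight {X₁ X₂} (f : PHom X₁ X₂) (Y : PObj A) : PHom (X₁.tensor Y) (X₂.tensor Y)
  | tensor {W X Y Z} (f : PHom W Y) (g : PHom X Z) : PHom (W.tensor X) (Y.tensor Z)
  | β (X Y : PObj A) : PHom (X.tensor Y) (Y.tensor X)
  | of {X Y : A} (f : X ⟶ Y) : PHom (PObj.of X) (PObj.of Y)
  | μ (X Y : A) : PHom ((PObj.of X).tensor (PObj.of Y)) (PObj.of (X ⊗ Y))
  | ε : PHom PObj.unit (PObj.of (𝟙_ A))
  | η (X : PObj A) : PHom (X.tensor X.inv) PObj.unit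

local infixr:10 " ⟶ᵖ " => PHom

/-- the relations -/
inductive HomEquiv : ∀ {X Y : PObj A}, (X ⟶ᵖ Y) → (X ⟶ᵖ Y) → Prop
  | refl {X Y} (f : X ⟶ᵖ Y) : HomEquiv f f
  | symm {X Y} (f g : X ⟶ᵖ Y) : HomEquiv f g → HomEquiv g f
  | trans {X Y} {f g h : X ⟶ᵖ Y} : HomEquiv f g → HomEquiv g h → HomEquiv f h
  | comp {X Y Z} {f f' : X ⟶ᵖ Y} {g g' : Y ⟶ᵖ Z} :
      HomEquiv f f' → HomEquiv g g' → HomEquiv (f.comp g) (f'.comp g')
  | inv {X Y} {f f' : X ⟶ᵖ Y} : HomEquiv f f' → HomEquiv f.inv f'.inv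
  | whiskerLeft (X) {Y Z} (f f' : Y ⟶ᵖ Z) :
      HomEquiv f f' → HomEquiv (f.whiskerLeft X) (f'.whiskerLeft X)
  | whiskerRight {Y Z} (f f' : Y ⟶ᵖ Z) (X) :
      HomEquiv f f' → HomEquiv (f.whiskerRight X) (f'.whiskerRight X)
  | tensor {W X Y Z} {f f' : W ⟶ᵖ X} {g g' : Y ⟶ᵖ Z} :
      HomEquiv f f' → HomEquiv g g' → HomEquiv (f.tensor g) (f'.tensor g')
  | comp_id {X Y} (f : X ⟶ᵖ Y) : HomEquiv (f.comp (PHom.id _)) f
  | id_comp {X Y} (f : X ⟶ᵖ Y) : HomEquiv ((PHom.id _).comp f) f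
  | assoc {X Y U V : PObj A} (f : X ⟶ᵖ U) (g : U ⟶ᵖ V) (h : V ⟶ᵖ Y) :
      HomEquiv ((f.comp g).comp h) (f.comp (g.comp h))
  | hom_inv {X Y} (f : X ⟶ᵖ Y) : HomEquiv (f.comp f.inv) (PHom.id _)
  | inv_hom {X Y} (f : X ⟶ᵖ Y) : HomEquiv (f.inv.comp f) (PHom.id _)
  | tensorHom_def {X₁ Y₁ X₂ Y₂} (f : X₁ ⟶ᵖ Y₁) (g : X₂ ⟶ᵖ Y₂) :
      HomEquiv (f.tensor g) ((f.whiskerRight X₂).comp (g.whiskerLeft Y₁))
  | id_tensorHom_id {X Y} : HomEquiv ((PHom.id X).tensor (PHom.id Y)) (PHom.id _)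
  | tensorHom_comp_tensorHom {X₁ Y₁ Z₁ X₂ Y₂ Z₂ : PObj A} (f₁ : X₁ ⟶ᵖ Y₁) (f₂ : X₂ ⟶ᵖ Y₂)
      (g₁ : Y₁ ⟶ᵖ Z₁) (g₂ : Y₂ ⟶ᵖ Z₂) :
    HomEquiv ((f₁.tensor f₂).comp (g₁.tensor g₂)) ((f₁.comp g₁).tensor (f₂.comp g₂))
  | whiskerLeft_id (X Y) : HomEquiv ((PHom.id Y).whiskerLeft X) (PHom.id (X.tensor Y))
  | id_whiskerRight (X Y) : HomEquiv ((PHom.id X).whiskerRight Y) (PHom.id (X.tensor Y))
  | associator_naturality {X₁ X₂ X₃ Y₁ Y₂ Y₃} (f₁ : X₁ ⟶ᵖ Y₁) (f₂ : X₂ ⟶ᵖ Y₂) (f₃ : X₃ ⟶ᵖ Y₃) :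
      HomEquiv (((f₁.tensor f₂).tensor f₃).comp (PHom.α_hom Y₁ Y₂ Y₃))
        ((PHom.α_hom X₁ X₂ X₃).comp (f₁.tensor (f₂.tensor f₃)))
  | ρ_naturality {X Y} (f : X ⟶ᵖ Y) :
      HomEquiv ((f.whiskerRight PObj.unit).comp (PHom.ρ_hom Y)) ((PHom.ρ_hom X).comp f)
  | l_naturality {X Y} (f : X ⟶ᵖ Y) :
      HomEquiv ((f.whiskerLeft PObj.unit).comp (PHom.l_hom Y)) ((PHom.l_hom X).comp f)
  | pentagon {W X Y Z} :
      HomEquiv
        (((PHom.α_hom W X Y).whiskerRight Z).comp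
          ((PHom.α_hom W (X.tensor Y) Z).comp ((PHom.α_hom X Y Z).whiskerLeft W)))
        ((PHom.α_hom (W.tensor X) Y Z).comp (PHom.α_hom W X (Y.tensor Z)))
  | triangle {X Y} :
      HomEquiv ((PHom.α_hom X PObj.unit Y).comp ((PHom.l_hom Y).whiskerLeft X))
        ((PHom.ρ_hom X).whiskerRight Y)
  | braiding_naturality_right (X) {Y Z} (f : Y ⟶ᵖ Z) :
      HomEquiv ((f.whiskerLeft X).comp (PHom.β X Z)) ((PHom.β X Y).comp (f.whiskerRight X))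
  | braiding_naturality_left {X Y} (f : X ⟶ᵖ Y) (Z) :
      HomEquiv ((f.whiskerRight Z).comp (PHom.β Y Z)) ((PHom.β X Z).comp (f.whiskerLeft Z))
  | hexagon_forward (X Y Z) :
      HomEquiv ((PHom.α_hom X Y Z).comp ((PHom.β X (Y.tensor Z)).comp (PHom.α_hom Y Z X)))
        (((PHom.β X Y).whiskerRight Z).comp ((PHom.α_hom Y X Z).comp ((PHom.β X Z).whiskerLeft Y)))
  | hexagon_reverse (X Y Z) :
      HomEquiv ((PHom.α_hom X Y Z).inv.comp ((PHom.β (X.tensor Y) Z).comp (PHom.α_hom Z X Y).inv))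
        (((PHom.β Y Z).whiskerLeft X).comp ((PHom.α_hom X Z Y).inv.comp ((PHom.β X Z).whiskerRight Y)))
  | symmetry (X Y) : HomEquiv ((PHom.β X Y).comp (PHom.β Y X)) (PHom.id _)
  | of_id (X : A) : HomEquiv (PHom.of (𝟙 X)) (PHom.id _)
  | of_comp {X Y Z : A} (f : X ⟶ Y) (g : Y ⟶ Z) :
      HomEquiv (PHom.of (f ≫ g)) ((PHom.of f).comp (PHom.of g))
  | μ_natural_left {X Y : A} (f : X ⟶ Y) (X' : A) :
      HomEquiv (((PHom.of f).whiskerRight (PObj.of X')).comp (PHom.μ Y X'))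
        ((PHom.μ X X').comp (PHom.of (f ▷ X')))
  | μ_natural_right {X Y : A} (X' : A) (f : X ⟶ Y) :
      HomEquiv (((PHom.of f).whiskerLeft (PObj.of X')).comp (PHom.μ X' Y))
        ((PHom.μ X' X).comp (PHom.of (X' ◁ f)))
  | associativity (X Y Z : A) :
      HomEquiv (((PHom.μ X Y).whiskerRight (PObj.of Z)).comp
          ((PHom.μ (X ⊗ Y) Z).comp (PHom.of (α_ X Y Z).hom)))
        ((PHom.α_hom (PObj.of X) (PObj.of Y) (PObj.of Z)).comp
          (((PHom.μ Y Z).whiskerLeft (PObj.of X)).comp (PHom.μ X (Y ⊗ Z))))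
  | left_unitality (X : A) :
      HomEquiv (PHom.l_hom (PObj.of X))
        ((PHom.ε.whiskerRight (PObj.of X)).comp ((PHom.μ (𝟙_ A) X).comp (PHom.of (λ_ X).hom)))
  | right_unitality (X : A) :
      HomEquiv (PHom.ρ_hom (PObj.of X))
        ((PHom.ε.whiskerLeft (PObj.of X)).comp ((PHom.μ X (𝟙_ A)).comp (PHom.of (ρ_ X).hom)))
  | braided (X Y : A) :
      HomEquiv ((PHom.μ X Y).comp (PHom.of (β_ X Y).hom))
        ((PHom.β (PObj.of X) (PObj.of Y)).comp (PHom.μ Y X))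

instance setoidHom (X Y : PObj A) : Setoid (X ⟶ᵖ Y) :=
  ⟨HomEquiv, ⟨HomEquiv.refl, HomEquiv.symm _ _, HomEquiv.trans⟩⟩

open HomEquiv

instance categoryPObj : Category.{max u v} (PObj A) where
  Hom X Y := Quotient (setoidHom X Y)
  id X := ⟦PHom.id X⟧
  comp := Quotient.map₂ PHom.comp (fun _ _ hf _ _ hg ↦ HomEquiv.comp hf hg)
  id_comp := by
    rintro X Y ⟨f⟩
    exact Quotient.sound (id_comp f)
  comp_id := by
    rintro X Y ⟨f⟩
    exact Quotient.sound (comp_id f)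
  assoc := by
    rintro W X Y Z ⟨f⟩ ⟨g⟩ ⟨h⟩
    exact Quotient.sound (assoc f g h)

/-- class of a formal morphism -/
abbrev homMk {X Y : PObj A} (f : X ⟶ᵖ Y) : X ⟶ Y := ⟦f⟧

/-- the formal inverse, as an isomorphism -/
def isoMk {X Y : PObj A} (f : X ⟶ᵖ Y) : X ≅ Y :=
  ⟨homMk f, homMk f.inv, Quotient.sound (hom_inv f), Quotient.sound (inv_hom f)⟩

instance : MonoidalCategory (PObj A) where
  tensorObj X Y := PObj.tensor X Y
  tensorHom := Quotient.map₂ PHom.tensor (fun _ _ hf _ _ hg ↦ HomEquiv.tensor hf hg)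
  whiskerLeft X _ _ f := Quot.map (fun f ↦ PHom.whiskerLeft X f) (fun f f' ↦ .whiskerLeft X f f') f
  whiskerRight f Y := Quot.map (fun f ↦ PHom.whiskerRight f Y) (fun f f' ↦ .whiskerRight f f' Y) f
  tensorHom_def {W X Y Z} := by
    rintro ⟨f⟩ ⟨g⟩
    exact Quotient.sound (tensorHom_def _ _)
  id_tensorHom_id _ _ := Quot.sound id_tensorHom_id
  tensorHom_comp_tensorHom {X₁ Y₁ Z₁ X₂ Y₂ Z₂} := by
    rintro ⟨f₁⟩ ⟨f₂⟩ ⟨g₁⟩ ⟨g₂⟩
    exact Quotient.sound (tensorHom_comp_tensorHom _ _ _ _)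
  whiskerLeft_id X Y := Quot.sound (HomEquiv.whiskerLeft_id X Y)
  id_whiskerRight X Y := Quot.sound (HomEquiv.id_whiskerRight X Y)
  tensorUnit := PObj.unit
  associator X Y Z := isoMk (PHom.α_hom X Y Z)
  associator_naturality {X₁ X₂ X₃ Y₁ Y₂ Y₃} := by
    rintro ⟨f₁⟩ ⟨f₂⟩ ⟨f₃⟩
    exact Quotient.sound (associator_naturality _ _ _)
  leftUnitor X := isoMk (PHom.l_hom X)
  leftUnitor_naturality {X Y} := by
    rintro ⟨f⟩
    exact Quotient.sound (l_naturality _)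
  rightUnitor X := isoMk (PHom.ρ_hom X)
  rightUnitor_naturality {X Y} := by
    rintro ⟨f⟩
    exact Quotient.sound (ρ_naturality _)
  pentagon _ _ _ _ := Quotient.sound pentagon
  triangle _ _ := Quotient.sound triangle

instance : SymmetricCategory (PObj A) where
  braiding X Y := isoMk (PHom.β X Y)
  braiding_naturality_right X {Y Z} := by
    rintro ⟨f⟩
    exact Quotient.sound (braiding_naturality_right X f)
  braiding_naturality_left {X Y} := by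
    rintro ⟨f⟩ Z
    exact Quotient.sound (braiding_naturality_left f Z)
  hexagon_forward X Y Z := Quotient.sound (hexagon_forward X Y Z)
  hexagon_reverse X Y Z := Quotient.sound (hexagon_reverse X Y Z)
  symmetry X Y := Quotient.sound (symmetry X Y)

instance : IsGroupoid (PObj A) where
  all_isIso := by
    rintro X Y ⟨f⟩
    exact (isoMk f).isIso_hom

end Groth.Agent.Lib.Helper5.PicFree
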