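import Mathlib

set_option autoImplicit false
universe v u

namespace Groth.Agent.Lib.Helper5.PicFree

open CategoryTheory MonoidalCategory

variable {C : Type u} [Category.{v} C] [MonoidalCategory C]

/-- If `X ⊗ X' ≅ 𝟙` and `X' ⊗ X ≅ 𝟙` then `tensorLeft X` is an equivalence. -/
theorem tensorLeft_isEquivalence_of_inv (X X' : C) (e : X ⊗ X' ≅ 𝟙_ C) (e' : X' ⊗ X ≅ 𝟙_ C) :
    (tensorLeft X).IsEquivalence := by
  let η : 𝟭 C ≅ tensorLeft X ⋙ tensorLeft X' :=
    (leftUnitorNatIso C).symm ≪≫ (tensoringLeft C).mapIso e'.symm ≪≫ tensorLeftTensor X' X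
  let ε : tensorLeft X' ⋙ tensorLeft X ≅ 𝟭 C :=
    (tensorLeftTensor X X').symm ≪≫ (tensoringLeft C).mapIso e ≪≫ leftUnitorNatIso C
  exact (CategoryTheory.Equivalence.mk (tensorLeft X) (tensorLeft X') η ε).isEquivalence_functor

/-- If `X ⊗ X' ≅ 𝟙` and `X' ⊗ X ≅ 𝟙` then `tensorRight X` is an equivalence. -/
theorem tensorRight_isEquivalence_of_inv (X X' : C) (e : X ⊗ X' ≅ 𝟙_ C) (e' : X' ⊗ X ≅ 𝟙_ C) :
    (tensorRight X).IsEquivalence := by
  let η : 𝟭 C ≅ tensorRight X ⋙ tensorRight X' :=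
    (rightUnitorNatIso C).symm ≪≫ (tensoringRight C).mapIso e.symm ≪≫ tensorRightTensor X X'
  let ε : tensorRight X' ⋙ tensorRight X ≅ 𝟭 C :=
    (tensorRightTensor X' X).symm ≪≫ (tensoringRight C).mapIso e' ≪≫ rightUnitorNatIso C
  exact (CategoryTheory.Equivalence.mk (tensorRight X) (tensorRight X') η ε).isEquivalence_functor

end Groth.Agent.Lib.Helper5.PicFree
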