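import Mathlib
import Groth.Agent.Lib.Helper5.PicFree.Basic
import Groth.Agent.Lib.Helper5.PicFree.Inv

set_option autoImplicit false
universe v u

namespace Groth.Agent.Lib.Helper5.PicFree

open CategoryTheory MonoidalCategory

variable {A : Type u} [Category.{v} A] [MonoidalCategory A] [SymmetricCategory A]

local infixr:10 " ⟶ᵖ " => PHom

@[simp]
theorem mk_comp {X Y Z : PObj A} (f : X ⟶ᵖ Y) (g : Y ⟶ᵖ Z) :
    homMk (f.comp g) = homMk f ≫ homMk g :=
  rfl

@[simp]
theorem mk_tensor {X₁ Y₁ X₂ Y₂ : PObj A} (f : X₁ ⟶ᵖ Y₁) (g : X₂ ⟶ᵖ Y₂) :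
    homMk (f.tensor g) = homMk f ⊗ₘ homMk g :=
  rfl

@[simp]
theorem mk_whiskerLeft (X : PObj A) {Y₁ Y₂ : PObj A} (f : Y₁ ⟶ᵖ Y₂) :
    homMk (f.whiskerLeft X) = X ◁ homMk f :=
  rfl

@[simp]
theorem mk_whiskerRight {X₁ X₂ : PObj A} (f : X₁ ⟶ᵖ X₂) (Y : PObj A) :
    homMk (f.whiskerRight Y) = homMk f ▷ Y :=
  rfl

@[simp]
theorem mk_id {X : PObj A} : homMk (PHom.id X) = 𝟙 X :=
  rfl

@[simp]
theorem mk_α_hom {X Y Z : PObj A} : homMk (PHom.α_hom X Y Z) = (α_ X Y Z).hom :=
  rfl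

@[simp]
theorem mk_ρ_hom {X : PObj A} : homMk (PHom.ρ_hom X) = (ρ_ X).hom :=
  rfl

@[simp]
theorem mk_l_hom {X : PObj A} : homMk (PHom.l_hom X) = (λ_ X).hom :=
  rfl

@[simp]
theorem mk_β {X Y : PObj A} : homMk (PHom.β X Y) = (β_ X Y).hom :=
  rfl

theorem mk_inv {X Y : PObj A} (f : X ⟶ᵖ Y) : homMk f.inv = (isoMk f).inv :=
  rfl

theorem mk_inv' {X Y : PObj A} (f : X ⟶ᵖ Y) : homMk f.inv = CategoryTheory.inv (homMk f) := by
  have : IsIso (homMk f) := (isoMk f).isIso_hom
  rw [← cancel_mono (homMk f), IsIso.inv_hom_id]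
  exact (isoMk f).inv_hom_id

@[simp]
theorem tensor_eq_tensor {X Y : PObj A} : X.tensor Y = X ⊗ Y :=
  rfl

@[simp]
theorem unit_eq_unit : (PObj.unit : PObj A) = 𝟙_ (PObj A) :=
  rfl

variable (A) in
/-- the inclusion functor -/
def incl : A ⥤ PObj A where
  obj X := PObj.of X
  map f := homMk (PHom.of f)
  map_id X := Quotient.sound (HomEquiv.of_id X)
  map_comp f g := Quotient.sound (HomEquiv.of_comp f g)

@[simp] theorem incl_obj (X : A) : (incl A).obj X = PObj.of X := rfl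
@[simp] theorem incl_map {X Y : A} (f : X ⟶ Y) : (incl A).map f = homMk (PHom.of f) := rfl

instance : (incl A).LaxBraided where
  ε := homMk PHom.ε
  μ X Y := homMk (PHom.μ X Y)
  μ_natural_left f X' := Quotient.sound (HomEquiv.μ_natural_left f X')
  μ_natural_right X' f := Quotient.sound (HomEquiv.μ_natural_right X' f)
  associativity X Y Z := Quotient.sound (HomEquiv.associativity X Y Z)
  left_unitality X := Quotient.sound (HomEquiv.left_unitality X)
  right_unitality X := Quotient.sound (HomEquiv.right_unitality X)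
  braided X Y := Quotient.sound (HomEquiv.braided X Y)

theorem incl_ε : Functor.LaxMonoidal.ε (incl A) = homMk PHom.ε := rfl
theorem incl_μ (X Y : A) : Functor.LaxMonoidal.μ (incl A) X Y = homMk (PHom.μ X Y) := rfl

/-- the evaluation iso `X ⊗ X⁻¹ ≅ 𝟙` -/
def ηIso (X : PObj A) : X ⊗ X.inv ≅ 𝟙_ (PObj A) := isoMk (PHom.η X)

theorem picard (X : PObj A) : (tensorLeft X).IsEquivalence ∧ (tensorRight X).IsEquivalence :=
  ⟨tensorLeft_isEquivalence_of_inv X X.inv (ηIso X) ((β_ _ _) ≪≫ ηIso X),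
    tensorRight_isEquivalence_of_inv X X.inv (ηIso X) ((β_ _ _) ≪≫ ηIso X)⟩

/-- induction principle for morphisms -/
theorem hom_inductionOn {motive : {X Y : PObj A} → (X ⟶ Y) → Prop} {X Y : PObj A} (t : X ⟶ Y)
    (id : (X : PObj A) → motive (𝟙 X))
    (comp : {X Y Z : PObj A} → (f : X ⟶ Y) → (g : Y ⟶ Z) → motive f → motive g → motive (f ≫ g))
    (inv : {X Y : PObj A} → (f : X ⟶ Y) → motive f → motive (CategoryTheory.inv f))
    (α_hom : (X Y Z : PObj A) → motive (α_ X Y Z).hom)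
    (l_hom : (X : PObj A) → motive (λ_ X).hom)
    (ρ_hom : (X : PObj A) → motive (ρ_ X).hom)
    (whiskerLeft : (X : PObj A) → {Y Z : PObj A} → (f : Y ⟶ Z) → motive f → motive (X ◁ f))
    (whiskerRight : {X Y : PObj A} → (f : X ⟶ Y) → (Z : PObj A) → motive f → motive (f ▷ Z))
    (β : (X Y : PObj A) → motive (β_ X Y).hom)
    (of : {X Y : A} → (f : X ⟶ Y) → motive ((incl A).map f))
    (μ : (X Y : A) → motive (Functor.LaxMonoidal.μ (incl A) X Y))
    (ε : motive (Functor.LaxMonoidal.ε (incl A)))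
    (η : (X : PObj A) → motive (ηIso X).hom) :
    motive t := by
  induction t using Quotient.inductionOn with | _ f
  induction f with
  | id X => exact id X
  | comp f g hf hg => exact comp _ _ hf hg
  | inv f hf =>
    change motive (homMk f.inv)
    rw [mk_inv']
    exact inv _ hf
  | α_hom X Y Z => exact α_hom X Y Z
  | l_hom X => exact l_hom X
  | ρ_hom X => exact ρ_hom X
  | whiskerLeft X f hf => exact whiskerLeft X _ hf
  | whiskerRight f X hf => exact whiskerRight _ X hf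
  | @tensor W X Y Z f g hf hg =>
      have : homMk f ⊗ₘ homMk g = homMk f ▷ X ≫ Y ◁ homMk g :=
        Quotient.sound (HomEquiv.tensorHom_def f g)
      change motive (homMk f ⊗ₘ homMk g)
      rw [this]
      exact comp _ _ (whiskerRight _ _ hf) (whiskerLeft _ _ hg)
  | β X Y => exact β X Y
  | of f => exact of f
  | μ X Y => exact μ X Y
  | ε => exact ε
  | η X => exact η X

end Groth.Agent.Lib.Helper5.PicFree
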