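import Mathlib
import Groth.Agent.Lib.Helper5.PicFree.Incl

set_option autoImplicit false
universe v u v' u'

namespace Groth.Agent.Lib.Helper5.PicFree

open CategoryTheory MonoidalCategory

variable {A : Type u} [Category.{v} A] [MonoidalCategory A] [SymmetricCategory A]
variable {P : Type u'} [Category.{v'} P] [MonoidalCategory P] [SymmetricCategory P] [IsGroupoid P]
  (hP : ∀ X : P, (tensorLeft X).IsEquivalence ∧ (tensorRight X).IsEquivalence)
  (Φ : A ⥤ P) [Φ.LaxBraided]

local infixr:10 " ⟶ᵖ " => PHom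

/-- a chosen inverse object -/
noncomputable def invObj (Y : P) : P :=
  haveI := (hP Y).1
  (tensorLeft Y).objPreimage (𝟙_ P)

/-- the chosen iso `Y ⊗ Y⁻¹ ≅ 𝟙` -/
noncomputable def invIso (Y : P) : Y ⊗ invObj hP Y ≅ 𝟙_ P :=
  haveI := (hP Y).1
  (tensorLeft Y).objObjPreimageIso (𝟙_ P)

/-- object part of the projection -/
noncomputable def projObj : PObj A → P
  | .of X => Φ.obj X
  | .unit => 𝟙_ P
  | .tensor X Y => projObj X ⊗ projObj Y
  | .inv X => invObj hP (projObj X)

open PHom in
/-- morphism part on formal morphisms -/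
noncomputable def projMapAux : ∀ {X Y : PObj A}, (X ⟶ᵖ Y) → (projObj hP Φ X ⟶ projObj hP Φ Y)
  | _, _, PHom.id _ => 𝟙 _
  | _, _, PHom.comp f g => projMapAux f ≫ projMapAux g
  | _, _, PHom.inv f => CategoryTheory.inv (projMapAux f)
  | _, _, α_hom _ _ _ => (α_ _ _ _).hom
  | _, _, l_hom _ => (λ_ _).hom
  | _, _, ρ_hom _ => (ρ_ _).hom
  | _, _, PHom.whiskerLeft X p => projObj hP Φ X ◁ projMapAux p
  | _, _, PHom.whiskerRight p X => projMapAux p ▷ projObj hP Φ X
  | _, _, PHom.tensor f g => projMapAux f ⊗ₘ projMapAux g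
  | _, _, PHom.β X Y => (β_ (projObj hP Φ X) (projObj hP Φ Y)).hom
  | _, _, PHom.of f => Φ.map f
  | _, _, PHom.μ X Y => Functor.LaxMonoidal.μ Φ X Y
  | _, _, PHom.ε => Functor.LaxMonoidal.ε Φ
  | _, _, PHom.η X => (invIso hP (projObj hP Φ X)).hom

set_option backward.isDefEq.respectTransparency false in
theorem projMapAux_respects {X Y : PObj A} (f g : X ⟶ᵖ Y) (h : HomEquiv f g) :
    projMapAux hP Φ f = projMapAux hP Φ g := by
  induction h with
  | refl => rfl
  | symm _ _ _ hfg' => exact hfg'.symm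
  | trans _ _ hfg hgh => exact hfg.trans hgh
  | comp _ _ hf hg => dsimp only [projMapAux]; rw [hf, hg]
  | inv _ hf => dsimp only [projMapAux]; simp only [hf]
  | whiskerLeft _ _ _ _ hf => dsimp only [projMapAux, projObj]; rw [hf]
  | whiskerRight _ _ _ _ hf => dsimp only [projMapAux, projObj]; rw [hf]
  | tensor _ _ hfg hfg' => dsimp only [projMapAux]; rw [hfg, hfg']
  | comp_id => dsimp only [projMapAux]; rw [Category.comp_id]
  | id_comp => dsimp only [projMapAux]; rw [Category.id_comp]
  | assoc => dsimp only [projMapAux]; rw [Category.assoc]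
  | hom_inv => dsimp only [projMapAux]; rw [IsIso.hom_inv_id]
  | inv_hom => dsimp only [projMapAux]; rw [IsIso.inv_hom_id]
  | tensorHom_def _ _ =>
      dsimp only [projMapAux, projObj]; rw [MonoidalCategory.tensorHom_def]
  | id_tensorHom_id => dsimp only [projMapAux]; rw [MonoidalCategory.id_tensorHom_id]; rfl
  | tensorHom_comp_tensorHom =>
      dsimp only [projMapAux]; rw [MonoidalCategory.tensorHom_comp_tensorHom]
  | whiskerLeft_id => dsimp only [projMapAux, projObj]; rw [MonoidalCategory.whiskerLeft_id]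
  | id_whiskerRight => dsimp only [projMapAux, projObj]; rw [MonoidalCategory.id_whiskerRight]
  | associator_naturality =>
      dsimp only [projMapAux]; rw [MonoidalCategory.associator_naturality]
  | ρ_naturality =>
      dsimp only [projMapAux, projObj]; rw [MonoidalCategory.rightUnitor_naturality]
  | l_naturality =>
      dsimp only [projMapAux, projObj]; rw [MonoidalCategory.leftUnitor_naturality]
  | pentagon =>
      dsimp only [projMapAux, projObj]; rw [MonoidalCategory.pentagon]
  | triangle =>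
      dsimp only [projMapAux, projObj]; rw [MonoidalCategory.triangle]
  | braiding_naturality_right =>
      dsimp only [projMapAux, projObj]; rw [BraidedCategory.braiding_naturality_right]
  | braiding_naturality_left =>
      dsimp only [projMapAux, projObj]; rw [BraidedCategory.braiding_naturality_left]
  | hexagon_forward =>
      dsimp only [projMapAux, projObj]; rw [BraidedCategory.hexagon_forward]
  | hexagon_reverse =>
      dsimp only [projMapAux, projObj]
      simp only [IsIso.Iso.inv_hom]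
      rw [BraidedCategory.hexagon_reverse]
  | symmetry =>
      dsimp only [projMapAux, projObj]; rw [SymmetricCategory.symmetry]
  | of_id => dsimp only [projMapAux]; rw [Φ.map_id]; rfl
  | of_comp => dsimp only [projMapAux]; rw [Φ.map_comp]
  | μ_natural_left =>
      dsimp only [projMapAux, projObj]; rw [Functor.LaxMonoidal.μ_natural_left]
  | μ_natural_right =>
      dsimp only [projMapAux, projObj]; rw [Functor.LaxMonoidal.μ_natural_right]
  | associativity =>
      dsimp only [projMapAux, projObj]; rw [Functor.LaxMonoidal.associativity]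
  | left_unitality =>
      dsimp only [projMapAux, projObj]; rw [Functor.LaxMonoidal.left_unitality]
  | right_unitality =>
      dsimp only [projMapAux, projObj]; rw [Functor.LaxMonoidal.right_unitality]
  | braided =>
      dsimp only [projMapAux, projObj]; rw [Functor.LaxBraided.braided]

/-- the projection functor -/
noncomputable def proj : PObj A ⥤ P where
  obj := projObj hP Φ
  map {X Y} := Quotient.lift (projMapAux hP Φ) (projMapAux_respects hP Φ)
  map_id _ := rfl
  map_comp := by rintro _ _ _ ⟨_⟩ ⟨_⟩; rfl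

@[simp] theorem proj_obj_of (X : A) : (proj hP Φ).obj (PObj.of X) = Φ.obj X := rfl
@[simp] theorem proj_obj_unit : (proj hP Φ).obj (𝟙_ (PObj A)) = 𝟙_ P := rfl
@[simp] theorem proj_obj_tensor (X Y : PObj A) :
    (proj hP Φ).obj (X ⊗ Y) = (proj hP Φ).obj X ⊗ (proj hP Φ).obj Y := rfl

theorem proj_map_mk {X Y : PObj A} (f : X ⟶ᵖ Y) :
    (proj hP Φ).map (homMk f) = projMapAux hP Φ f := rfl

theorem proj_map_whiskerLeft (X : PObj A) {Y Z : PObj A} (f : Y ⟶ Z) :
    (proj hP Φ).map (X ◁ f) = (proj hP Φ).obj X ◁ (proj hP Φ).map f := by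
  induction f using Quotient.inductionOn with | _ f
  rfl

theorem proj_map_whiskerRight {X Y : PObj A} (f : X ⟶ Y) (Z : PObj A) :
    (proj hP Φ).map (f ▷ Z) = (proj hP Φ).map f ▷ (proj hP Φ).obj Z := by
  induction f using Quotient.inductionOn with | _ f
  rfl

theorem proj_map_a (X Y Z : PObj A) :
    (proj hP Φ).map (α_ X Y Z).hom =
      (α_ ((proj hP Φ).obj X) ((proj hP Φ).obj Y) ((proj hP Φ).obj Z)).hom := rfl

theorem proj_map_l (X : PObj A) :
    (proj hP Φ).map (λ_ X).hom = (λ_ ((proj hP Φ).obj X)).hom := rfl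

theorem proj_map_r (X : PObj A) :
    (proj hP Φ).map (ρ_ X).hom = (ρ_ ((proj hP Φ).obj X)).hom := rfl

theorem proj_map_b (X Y : PObj A) :
    (proj hP Φ).map (β_ X Y).hom = (β_ ((proj hP Φ).obj X) ((proj hP Φ).obj Y)).hom := rfl

theorem proj_map_incl {X Y : A} (f : X ⟶ Y) : (proj hP Φ).map ((incl A).map f) = Φ.map f := rfl

theorem proj_map_μ (X Y : A) :
    (proj hP Φ).map (Functor.LaxMonoidal.μ (incl A) X Y) = Functor.LaxMonoidal.μ Φ X Y := rfl

theorem proj_map_ε :
    (proj hP Φ).map (Functor.LaxMonoidal.ε (incl A)) = Functor.LaxMonoidal.ε Φ := rfl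

noncomputable instance : (proj hP Φ).LaxBraided where
  ε := 𝟙 _
  μ X Y := 𝟙 _
  μ_natural_left f X' := by
    rw [proj_map_whiskerRight]
    simp
  μ_natural_right X' f := by
    rw [proj_map_whiskerLeft]
    simp
  associativity X Y Z := by
    rw [proj_map_a]
    simp
  left_unitality X := by
    rw [proj_map_l]
    simp
  right_unitality X := by
    rw [proj_map_r]
    simp
  braided X Y := by
    rw [proj_map_b]
    simp

theorem proj_ε : Functor.LaxMonoidal.ε (proj hP Φ) = 𝟙 _ := rfl
theorem proj_μ (X Y : PObj A) : Functor.LaxMonoidal.μ (proj hP Φ) X Y = 𝟙 _ := rfl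

/-- the comparison iso `i ⋙ Ψ ≅ Φ` (identity on components) -/
noncomputable def projIso : incl A ⋙ proj hP Φ ≅ Φ :=
  NatIso.ofComponents (fun X => Iso.refl _) (by
    intro X Y f
    change Φ.map f ≫ 𝟙 (Φ.obj Y) = 𝟙 (Φ.obj X) ≫ Φ.map f
    simp)

theorem projIso_monoidal : NatTrans.IsMonoidal (projIso hP Φ).hom where
  unit := by
    rw [Functor.LaxMonoidal.comp_ε]
    change (𝟙 (𝟙_ P) ≫ Functor.LaxMonoidal.ε Φ) ≫ 𝟙 (Φ.obj (𝟙_ A)) = Functor.LaxMonoidal.ε Φ
    simp
  tensor X Y := by
    rw [Functor.LaxMonoidal.comp_μ]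
    change (𝟙 (Φ.obj X ⊗ Φ.obj Y) ≫ Functor.LaxMonoidal.μ Φ X Y) ≫ 𝟙 (Φ.obj (X ⊗ Y)) =
      (𝟙 (Φ.obj X) ⊗ₘ 𝟙 (Φ.obj Y)) ≫ Functor.LaxMonoidal.μ Φ X Y
    simp

end Groth.Agent.Lib.Helper5.PicFree
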