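import Mathlib
import Groth.Agent.Lib.Helper5.PicFree.Incl

set_option autoImplicit false
universe v u v' u'

namespace Groth.Agent.Lib.Helper5.PicFree

open CategoryTheory MonoidalCategory Functor.LaxMonoidal

variable {A : Type u} [Category.{v} A] [MonoidalCategory A] [SymmetricCategory A]
variable {P : Type u'} [Category.{v'} P] [MonoidalCategory P] [SymmetricCategory P] [IsGroupoid P]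
  (hP : ∀ X : P, (tensorLeft X).IsEquivalence ∧ (tensorRight X).IsEquivalence)
  (Ψ Ψ' : PObj A ⥤ P) [Ψ.LaxBraided] [Ψ'.LaxBraided]
  (τ : incl A ⋙ Ψ ⟶ incl A ⋙ Ψ')

/-- the morphism prescribing `Ψ a ◁ θ (a⁻¹)` -/
noncomputable def invTarget (a : PObj A) (θa : Ψ.obj a ⟶ Ψ'.obj a)
    (θu : Ψ.obj (𝟙_ (PObj A)) ⟶ Ψ'.obj (𝟙_ (PObj A))) :
    Ψ.obj a ⊗ Ψ.obj a.inv ⟶ Ψ.obj a ⊗ Ψ'.obj a.inv :=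
  μ Ψ a a.inv ≫ Ψ.map (ηIso a).hom ≫ θu ≫ inv (Ψ'.map (ηIso a).hom) ≫ inv (μ Ψ' a a.inv) ≫
    inv (θa ▷ Ψ'.obj a.inv)

/-- the unit component -/
noncomputable def θunit : Ψ.obj (𝟙_ (PObj A)) ⟶ Ψ'.obj (𝟙_ (PObj A)) := inv (ε Ψ) ≫ ε Ψ'

/-- components of the extension -/
noncomputable def θobj : (a : PObj A) → (Ψ.obj a ⟶ Ψ'.obj a)
  | .of X => τ.app X
  | .unit => θunit Ψ Ψ'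
  | .tensor a b => inv (μ Ψ a b) ≫ (θobj a ⊗ₘ θobj b) ≫ μ Ψ' a b
  | .inv a =>
    haveI := (hP (Ψ.obj a)).1
    (tensorLeft (Ψ.obj a)).preimage (invTarget Ψ Ψ' a (θobj a) (θunit Ψ Ψ'))

theorem θobj_of (X : A) : θobj hP Ψ Ψ' τ (PObj.of X) = τ.app X := rfl

theorem θobj_unit : θobj hP Ψ Ψ' τ (𝟙_ (PObj A)) = θunit Ψ Ψ' := rfl

theorem θobj_tensor (a b : PObj A) :
    θobj hP Ψ Ψ' τ (a ⊗ b) = inv (μ Ψ a b) ≫ (θobj hP Ψ Ψ' τ a ⊗ₘ θobj hP Ψ Ψ' τ b) ≫ μ Ψ' a b := rfl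

theorem θobj_inv (a : PObj A) :
    Ψ.obj a ◁ θobj hP Ψ Ψ' τ a.inv = invTarget Ψ Ψ' a (θobj hP Ψ Ψ' τ a) (θunit Ψ Ψ') := by
  haveI := (hP (Ψ.obj a)).1
  change (tensorLeft (Ψ.obj a)).map ((tensorLeft (Ψ.obj a)).preimage _) = _
  rw [Functor.map_preimage]

/-- (U) -/
theorem θ_unit : ε Ψ ≫ θobj hP Ψ Ψ' τ (𝟙_ (PObj A)) = ε Ψ' := by
  rw [θobj_unit, θunit, IsIso.hom_inv_id_assoc]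

/-- (T) -/
theorem θ_tensor (a b : PObj A) :
    μ Ψ a b ≫ θobj hP Ψ Ψ' τ (a ⊗ b) = (θobj hP Ψ Ψ' τ a ⊗ₘ θobj hP Ψ Ψ' τ b) ≫ μ Ψ' a b := by
  rw [θobj_tensor, IsIso.hom_inv_id_assoc]

/-- the η-square -/
theorem θ_η (a : PObj A) :
    (θobj hP Ψ Ψ' τ a ⊗ₘ θobj hP Ψ Ψ' τ a.inv) ≫ μ Ψ' a a.inv ≫ Ψ'.map (ηIso a).hom =
      μ Ψ a a.inv ≫ Ψ.map (ηIso a).hom ≫ θobj hP Ψ Ψ' τ (𝟙_ (PObj A)) := by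
  rw [tensorHom_def', θobj_inv, invTarget, θobj_unit]
  simp only [Category.assoc, IsIso.inv_hom_id_assoc, IsIso.inv_hom_id, Category.comp_id]

/-- the naturality predicate -/
def Nat {X Y : PObj A} (f : X ⟶ Y) : Prop :=
  θobj hP Ψ Ψ' τ X ≫ Ψ'.map f = Ψ.map f ≫ θobj hP Ψ Ψ' τ Y

theorem nat_id (X : PObj A) : Nat hP Ψ Ψ' τ (𝟙 X) := by
  simp [Nat]

theorem nat_comp {X Y Z : PObj A} (f : X ⟶ Y) (g : Y ⟶ Z) (hf : Nat hP Ψ Ψ' τ f)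
    (hg : Nat hP Ψ Ψ' τ g) : Nat hP Ψ Ψ' τ (f ≫ g) := by
  unfold Nat at *
  rw [Functor.map_comp, Functor.map_comp, reassoc_of% hf, hg, Category.assoc]

theorem nat_inv {X Y : PObj A} (f : X ⟶ Y) (hf : Nat hP Ψ Ψ' τ f) :
    Nat hP Ψ Ψ' τ (inv f) := by
  unfold Nat at *
  rw [Functor.map_inv, Functor.map_inv, IsIso.comp_inv_eq, Category.assoc, IsIso.eq_inv_comp, hf]

theorem nat_tensor {X₁ Y₁ X₂ Y₂ : PObj A} (f : X₁ ⟶ Y₁) (g : X₂ ⟶ Y₂) (hf : Nat hP Ψ Ψ' τ f)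
    (hg : Nat hP Ψ Ψ' τ g) : Nat hP Ψ Ψ' τ (f ⊗ₘ g) := by
  unfold Nat at *
  rw [← cancel_epi (μ Ψ X₁ X₂)]
  calc μ Ψ X₁ X₂ ≫ θobj hP Ψ Ψ' τ (X₁ ⊗ X₂) ≫ Ψ'.map (f ⊗ₘ g)
      = (θobj hP Ψ Ψ' τ X₁ ⊗ₘ θobj hP Ψ Ψ' τ X₂) ≫ μ Ψ' X₁ X₂ ≫ Ψ'.map (f ⊗ₘ g) := by
        rw [reassoc_of% (θ_tensor hP Ψ Ψ' τ X₁ X₂)]
    _ = (θobj hP Ψ Ψ' τ X₁ ⊗ₘ θobj hP Ψ Ψ' τ X₂) ≫ (Ψ'.map f ⊗ₘ Ψ'.map g) ≫ μ Ψ' Y₁ Y₂ := by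
        rw [μ_natural]
    _ = ((θobj hP Ψ Ψ' τ X₁ ≫ Ψ'.map f) ⊗ₘ (θobj hP Ψ Ψ' τ X₂ ≫ Ψ'.map g)) ≫ μ Ψ' Y₁ Y₂ := by
        rw [← Category.assoc, tensorHom_comp_tensorHom]
    _ = ((Ψ.map f ≫ θobj hP Ψ Ψ' τ Y₁) ⊗ₘ (Ψ.map g ≫ θobj hP Ψ Ψ' τ Y₂)) ≫ μ Ψ' Y₁ Y₂ := by
        rw [hf, hg]
    _ = (Ψ.map f ⊗ₘ Ψ.map g) ≫ (θobj hP Ψ Ψ' τ Y₁ ⊗ₘ θobj hP Ψ Ψ' τ Y₂) ≫ μ Ψ' Y₁ Y₂ := by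
        rw [← tensorHom_comp_tensorHom, Category.assoc]
    _ = (Ψ.map f ⊗ₘ Ψ.map g) ≫ μ Ψ Y₁ Y₂ ≫ θobj hP Ψ Ψ' τ (Y₁ ⊗ Y₂) := by
        rw [θ_tensor]
    _ = μ Ψ X₁ X₂ ≫ Ψ.map (f ⊗ₘ g) ≫ θobj hP Ψ Ψ' τ (Y₁ ⊗ Y₂) := by
        rw [μ_natural_assoc]

theorem nat_whiskerLeft (X : PObj A) {Y Z : PObj A} (f : Y ⟶ Z) (hf : Nat hP Ψ Ψ' τ f) :
    Nat hP Ψ Ψ' τ (X ◁ f) := by
  rw [← id_tensorHom]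
  exact nat_tensor hP Ψ Ψ' τ _ _ (nat_id hP Ψ Ψ' τ X) hf

theorem nat_whiskerRight {X Y : PObj A} (f : X ⟶ Y) (Z : PObj A) (hf : Nat hP Ψ Ψ' τ f) :
    Nat hP Ψ Ψ' τ (f ▷ Z) := by
  rw [← tensorHom_id]
  exact nat_tensor hP Ψ Ψ' τ _ _ hf (nat_id hP Ψ Ψ' τ Z)

end Groth.Agent.Lib.Helper5.PicFree
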