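import Mathlib
import Groth.Agent.Lib.Helper5.PicFree.Theta

set_option autoImplicit false
universe v u v' u'

namespace Groth.Agent.Lib.Helper5.PicFree

open CategoryTheory MonoidalCategory Functor.LaxMonoidal

variable {A : Type u} [Category.{v} A] [MonoidalCategory A] [SymmetricCategory A]
variable {P : Type u'} [Category.{v'} P] [MonoidalCategory P] [SymmetricCategory P] [IsGroupoid P]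
  (hP : ∀ X : P, (tensorLeft X).IsEquivalence ∧ (tensorRight X).IsEquivalence)
  (Ψ Ψ' : PObj A ⥤ P) [Ψ.LaxBraided] [Ψ'.LaxBraided]
  (τ : incl A ⋙ Ψ ⟶ incl A ⋙ Ψ')

local notation "θ" => θobj hP Ψ Ψ' τ

theorem nat_α (X Y Z : PObj A) : Nat hP Ψ Ψ' τ (α_ X Y Z).hom := by
  unfold Nat
  rw [← cancel_epi (μ Ψ (X ⊗ Y) Z), ← cancel_epi (μ Ψ X Y ▷ Ψ.obj Z)]
  calc μ Ψ X Y ▷ Ψ.obj Z ≫ μ Ψ (X ⊗ Y) Z ≫ θ ((X ⊗ Y) ⊗ Z) ≫ Ψ'.map (α_ X Y Z).hom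
      = (μ Ψ X Y ⊗ₘ 𝟙 (Ψ.obj Z)) ≫ (θ (X ⊗ Y) ⊗ₘ θ Z) ≫ μ Ψ' (X ⊗ Y) Z ≫ Ψ'.map (α_ X Y Z).hom := by
        rw [reassoc_of% (θ_tensor hP Ψ Ψ' τ (X ⊗ Y) Z), tensorHom_id]
    _ = (((θ X ⊗ₘ θ Y) ≫ μ Ψ' X Y) ⊗ₘ θ Z) ≫ μ Ψ' (X ⊗ Y) Z ≫ Ψ'.map (α_ X Y Z).hom := by
        rw [← Category.assoc, tensorHom_comp_tensorHom, θ_tensor, Category.id_comp]
    _ = ((θ X ⊗ₘ θ Y) ⊗ₘ θ Z) ≫ (μ Ψ' X Y ▷ Ψ'.obj Z) ≫ μ Ψ' (X ⊗ Y) Z ≫ Ψ'.map (α_ X Y Z).hom := by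
        have : ((θ X ⊗ₘ θ Y) ≫ μ Ψ' X Y) ⊗ₘ θ Z =
            ((θ X ⊗ₘ θ Y) ⊗ₘ θ Z) ≫ (μ Ψ' X Y ▷ Ψ'.obj Z) := by
          rw [← tensorHom_id, tensorHom_comp_tensorHom, Category.comp_id]
        rw [this, Category.assoc]
    _ = ((θ X ⊗ₘ θ Y) ⊗ₘ θ Z) ≫ (α_ _ _ _).hom ≫ Ψ'.obj X ◁ μ Ψ' Y Z ≫ μ Ψ' X (Y ⊗ Z) := by
        rw [associativity]
    _ = (α_ _ _ _).hom ≫ (θ X ⊗ₘ (θ Y ⊗ₘ θ Z)) ≫ Ψ'.obj X ◁ μ Ψ' Y Z ≫ μ Ψ' X (Y ⊗ Z) := by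
        rw [← Category.assoc, associator_naturality, Category.assoc]
    _ = (α_ _ _ _).hom ≫ (θ X ⊗ₘ ((θ Y ⊗ₘ θ Z) ≫ μ Ψ' Y Z)) ≫ μ Ψ' X (Y ⊗ Z) := by
        rw [← id_tensorHom, ← Category.assoc (θ X ⊗ₘ (θ Y ⊗ₘ θ Z)), tensorHom_comp_tensorHom,
          Category.comp_id]
    _ = (α_ _ _ _).hom ≫ (θ X ⊗ₘ (μ Ψ Y Z ≫ θ (Y ⊗ Z))) ≫ μ Ψ' X (Y ⊗ Z) := by
        rw [θ_tensor]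
    _ = (α_ _ _ _).hom ≫ Ψ.obj X ◁ μ Ψ Y Z ≫ (θ X ⊗ₘ θ (Y ⊗ Z)) ≫ μ Ψ' X (Y ⊗ Z) := by
        rw [← id_tensorHom, ← Category.assoc (𝟙 (Ψ.obj X) ⊗ₘ μ Ψ Y Z), tensorHom_comp_tensorHom,
          Category.id_comp]
    _ = (α_ _ _ _).hom ≫ Ψ.obj X ◁ μ Ψ Y Z ≫ μ Ψ X (Y ⊗ Z) ≫ θ (X ⊗ (Y ⊗ Z)) := by
        rw [θ_tensor]
    _ = μ Ψ X Y ▷ Ψ.obj Z ≫ μ Ψ (X ⊗ Y) Z ≫ Ψ.map (α_ X Y Z).hom ≫ θ (X ⊗ (Y ⊗ Z)) := by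
        rw [associativity_assoc]

theorem nat_l (X : PObj A) : Nat hP Ψ Ψ' τ (λ_ X).hom := by
  unfold Nat
  rw [← cancel_epi (μ Ψ (𝟙_ _) X), ← cancel_epi (ε Ψ ▷ Ψ.obj X)]
  calc ε Ψ ▷ Ψ.obj X ≫ μ Ψ (𝟙_ _) X ≫ θ (𝟙_ _ ⊗ X) ≫ Ψ'.map (λ_ X).hom
      = (ε Ψ ⊗ₘ 𝟙 (Ψ.obj X)) ≫ (θ (𝟙_ _) ⊗ₘ θ X) ≫ μ Ψ' (𝟙_ _) X ≫ Ψ'.map (λ_ X).hom := by
        rw [reassoc_of% (θ_tensor hP Ψ Ψ' τ (𝟙_ _) X), tensorHom_id]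
    _ = (ε Ψ' ⊗ₘ θ X) ≫ μ Ψ' (𝟙_ _) X ≫ Ψ'.map (λ_ X).hom := by
        rw [← Category.assoc, tensorHom_comp_tensorHom, θ_unit, Category.id_comp]
    _ = (𝟙_ P ◁ θ X) ≫ ε Ψ' ▷ Ψ'.obj X ≫ μ Ψ' (𝟙_ _) X ≫ Ψ'.map (λ_ X).hom := by
        rw [tensorHom_def', Category.assoc]
    _ = (𝟙_ P ◁ θ X) ≫ (λ_ (Ψ'.obj X)).hom := by
        rw [← left_unitality]
    _ = (λ_ (Ψ.obj X)).hom ≫ θ X := by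
        rw [leftUnitor_naturality]
    _ = ε Ψ ▷ Ψ.obj X ≫ μ Ψ (𝟙_ _) X ≫ Ψ.map (λ_ X).hom ≫ θ X := by
        rw [left_unitality Ψ X]
        simp only [Category.assoc]

theorem nat_r (X : PObj A) : Nat hP Ψ Ψ' τ (ρ_ X).hom := by
  unfold Nat
  rw [← cancel_epi (μ Ψ X (𝟙_ _)), ← cancel_epi (Ψ.obj X ◁ ε Ψ)]
  calc Ψ.obj X ◁ ε Ψ ≫ μ Ψ X (𝟙_ _) ≫ θ (X ⊗ 𝟙_ _) ≫ Ψ'.map (ρ_ X).hom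
      = (𝟙 (Ψ.obj X) ⊗ₘ ε Ψ) ≫ (θ X ⊗ₘ θ (𝟙_ _)) ≫ μ Ψ' X (𝟙_ _) ≫ Ψ'.map (ρ_ X).hom := by
        rw [reassoc_of% (θ_tensor hP Ψ Ψ' τ X (𝟙_ _)), id_tensorHom]
    _ = (θ X ⊗ₘ ε Ψ') ≫ μ Ψ' X (𝟙_ _) ≫ Ψ'.map (ρ_ X).hom := by
        rw [← Category.assoc, tensorHom_comp_tensorHom, θ_unit, Category.id_comp]
    _ = (θ X ▷ 𝟙_ P) ≫ Ψ'.obj X ◁ ε Ψ' ≫ μ Ψ' X (𝟙_ _) ≫ Ψ'.map (ρ_ X).hom := by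
        rw [MonoidalCategory.tensorHom_def, Category.assoc]
    _ = (θ X ▷ 𝟙_ P) ≫ (ρ_ (Ψ'.obj X)).hom := by
        rw [← right_unitality]
    _ = (ρ_ (Ψ.obj X)).hom ≫ θ X := by
        rw [rightUnitor_naturality]
    _ = Ψ.obj X ◁ ε Ψ ≫ μ Ψ X (𝟙_ _) ≫ Ψ.map (ρ_ X).hom ≫ θ X := by
        rw [right_unitality Ψ X]
        simp only [Category.assoc]

theorem nat_β (X Y : PObj A) : Nat hP Ψ Ψ' τ (β_ X Y).hom := by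
  unfold Nat
  rw [← cancel_epi (μ Ψ X Y)]
  calc μ Ψ X Y ≫ θ (X ⊗ Y) ≫ Ψ'.map (β_ X Y).hom
      = (θ X ⊗ₘ θ Y) ≫ μ Ψ' X Y ≫ Ψ'.map (β_ X Y).hom := by
        rw [reassoc_of% (θ_tensor hP Ψ Ψ' τ X Y)]
    _ = (θ X ⊗ₘ θ Y) ≫ (β_ _ _).hom ≫ μ Ψ' Y X := by
        rw [Functor.LaxBraided.braided]
    _ = (β_ _ _).hom ≫ (θ Y ⊗ₘ θ X) ≫ μ Ψ' Y X := by
        rw [← Category.assoc, BraidedCategory.braiding_naturality, Category.assoc]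
    _ = (β_ _ _).hom ≫ μ Ψ Y X ≫ θ (Y ⊗ X) := by
        rw [θ_tensor]
    _ = μ Ψ X Y ≫ Ψ.map (β_ X Y).hom ≫ θ (Y ⊗ X) := by
        rw [Functor.LaxBraided.braided_assoc]

theorem nat_of {X Y : A} (f : X ⟶ Y) : Nat hP Ψ Ψ' τ ((incl A).map f) :=
  (τ.naturality f).symm

theorem nat_μ [NatTrans.IsMonoidal τ] (X Y : A) : Nat hP Ψ Ψ' τ (μ (incl A) X Y) := by
  unfold Nat
  rw [← cancel_epi (μ Ψ ((incl A).obj X) ((incl A).obj Y))]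
  have h := NatTrans.IsMonoidal.tensor (τ := τ) X Y
  rw [Functor.LaxMonoidal.comp_μ, Functor.LaxMonoidal.comp_μ] at h
  calc μ Ψ ((incl A).obj X) ((incl A).obj Y) ≫ θ ((incl A).obj X ⊗ (incl A).obj Y) ≫
        Ψ'.map (μ (incl A) X Y)
      = (τ.app X ⊗ₘ τ.app Y) ≫ μ Ψ' ((incl A).obj X) ((incl A).obj Y) ≫ Ψ'.map (μ (incl A) X Y) := by
        rw [reassoc_of% (θ_tensor hP Ψ Ψ' τ ((incl A).obj X) ((incl A).obj Y))]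
        rfl
    _ = (μ Ψ ((incl A).obj X) ((incl A).obj Y) ≫ Ψ.map (μ (incl A) X Y)) ≫ τ.app (X ⊗ Y) := h.symm
    _ = _ := by rw [Category.assoc]; rfl

theorem nat_ε [NatTrans.IsMonoidal τ] : Nat hP Ψ Ψ' τ (ε (incl A)) := by
  unfold Nat
  rw [← cancel_epi (ε Ψ)]
  have h := NatTrans.IsMonoidal.unit (τ := τ)
  rw [Functor.LaxMonoidal.comp_ε, Functor.LaxMonoidal.comp_ε] at h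
  calc ε Ψ ≫ θ (𝟙_ _) ≫ Ψ'.map (ε (incl A))
      = ε Ψ' ≫ Ψ'.map (ε (incl A)) := by rw [reassoc_of% (θ_unit hP Ψ Ψ' τ)]
    _ = (ε Ψ ≫ Ψ.map (ε (incl A))) ≫ τ.app (𝟙_ A) := h.symm
    _ = _ := by rw [Category.assoc]; rfl

theorem nat_η (a : PObj A) : Nat hP Ψ Ψ' τ (ηIso a).hom := by
  unfold Nat
  rw [← cancel_epi (μ Ψ a a.inv)]
  calc μ Ψ a a.inv ≫ θ (a ⊗ a.inv) ≫ Ψ'.map (ηIso a).hom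
      = (θ a ⊗ₘ θ a.inv) ≫ μ Ψ' a a.inv ≫ Ψ'.map (ηIso a).hom := by
        rw [reassoc_of% (θ_tensor hP Ψ Ψ' τ a a.inv)]
    _ = _ := θ_η hP Ψ Ψ' τ a

theorem nat_all [NatTrans.IsMonoidal τ] {X Y : PObj A} (f : X ⟶ Y) : Nat hP Ψ Ψ' τ f := by
  refine hom_inductionOn (motive := fun {X Y} f => Nat hP Ψ Ψ' τ f) f
    (nat_id hP Ψ Ψ' τ) (nat_comp hP Ψ Ψ' τ) (nat_inv hP Ψ Ψ' τ) (nat_α hP Ψ Ψ' τ)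
    (nat_l hP Ψ Ψ' τ) (nat_r hP Ψ Ψ' τ) (nat_whiskerLeft hP Ψ Ψ' τ) (nat_whiskerRight hP Ψ Ψ' τ)
    (nat_β hP Ψ Ψ' τ) (nat_of hP Ψ Ψ' τ) (nat_μ hP Ψ Ψ' τ) (nat_ε hP Ψ Ψ' τ) (nat_η hP Ψ Ψ' τ)

end Groth.Agent.Lib.Helper5.PicFree
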