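import Mathlib
import Groth.Agent.Lib.Helper5.PicFree.Theta2
import Groth.Agent.Lib.Helper5.PicFree.Proj

set_option autoImplicit false
universe v u v' u'

namespace Groth.Agent.Lib.Helper5.PicFree

open CategoryTheory MonoidalCategory Functor.LaxMonoidal

variable {A : Type u} [Category.{v} A] [MonoidalCategory A] [SymmetricCategory A]
variable {P : Type u'} [Category.{v'} P] [MonoidalCategory P] [SymmetricCategory P] [IsGroupoid P]
  (hP : ∀ X : P, (tensorLeft X).IsEquivalence ∧ (tensorRight X).IsEquivalence)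
  (Ψ Ψ' : PObj A ⥤ P) [Ψ.LaxBraided] [Ψ'.LaxBraided]
  (τ : incl A ⋙ Ψ ⟶ incl A ⋙ Ψ')

/-- the extension as a natural transformation -/
noncomputable def θnat [NatTrans.IsMonoidal τ] : Ψ ⟶ Ψ' where
  app := θobj hP Ψ Ψ' τ
  naturality _ _ f := (nat_all hP Ψ Ψ' τ f).symm

theorem θnat_app [NatTrans.IsMonoidal τ] (a : PObj A) :
    (θnat hP Ψ Ψ' τ).app a = θobj hP Ψ Ψ' τ a := rfl

theorem θnat_monoidal [NatTrans.IsMonoidal τ] : NatTrans.IsMonoidal (θnat hP Ψ Ψ' τ) where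
  unit := θ_unit hP Ψ Ψ' τ
  tensor X Y := θ_tensor hP Ψ Ψ' τ X Y

theorem θnat_whisker [NatTrans.IsMonoidal τ] : Functor.whiskerLeft (incl A) (θnat hP Ψ Ψ' τ) = τ := by
  ext X
  rfl

theorem θ_unique [NatTrans.IsMonoidal τ] (θ' : Ψ ⟶ Ψ') (h1 : NatTrans.IsMonoidal θ')
    (h2 : Functor.whiskerLeft (incl A) θ' = τ) (a : PObj A) :
    θ'.app a = θobj hP Ψ Ψ' τ a := by
  induction a with
  | of X =>
    have := congrArg (fun t => t.app X) h2
    exact this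
  | unit =>
    have := NatTrans.IsMonoidal.unit (τ := θ')
    change θ'.app (𝟙_ (PObj A)) = θunit Ψ Ψ'
    rw [θunit, ← this, IsIso.inv_hom_id_assoc]
  | tensor a b iha ihb =>
    have := NatTrans.IsMonoidal.tensor (τ := θ') a b
    change θ'.app (a ⊗ b) = θobj hP Ψ Ψ' τ (a ⊗ b)
    rw [θobj_tensor, ← iha, ← ihb, ← this, IsIso.inv_hom_id_assoc]
  | inv a iha =>
    haveI := (hP (Ψ.obj a)).1
    apply (tensorLeft (Ψ.obj a)).map_injective
    change Ψ.obj a ◁ θ'.app a.inv = Ψ.obj a ◁ θobj hP Ψ Ψ' τ a.inv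
    rw [θobj_inv, invTarget]
    have hu : θ'.app (𝟙_ (PObj A)) = θunit Ψ Ψ' := by
      have := NatTrans.IsMonoidal.unit (τ := θ')
      rw [θunit, ← this, IsIso.inv_hom_id_assoc]
    have ht := NatTrans.IsMonoidal.tensor (τ := θ') a a.inv
    have hn := θ'.naturality (ηIso a).hom
    -- (θ'a ⊗ θ'a⁻¹) = μ ≫ Ψη ≫ θ'𝟙 ≫ inv Ψ'η ≫ inv μ'
    have key : (θ'.app a ⊗ₘ θ'.app a.inv) =
        μ Ψ a a.inv ≫ Ψ.map (ηIso a).hom ≫ θ'.app (𝟙_ (PObj A)) ≫ inv (Ψ'.map (ηIso a).hom) ≫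
          inv (μ Ψ' a a.inv) := by
      have h3 : θ'.app (a ⊗ a.inv) =
          Ψ.map (ηIso a).hom ≫ θ'.app (𝟙_ (PObj A)) ≫ inv (Ψ'.map (ηIso a).hom) := by
        rw [reassoc_of% hn]
        simp
      calc (θ'.app a ⊗ₘ θ'.app a.inv)
          = ((θ'.app a ⊗ₘ θ'.app a.inv) ≫ μ Ψ' a a.inv) ≫ inv (μ Ψ' a a.inv) := by simp
        _ = (μ Ψ a a.inv ≫ θ'.app (a ⊗ a.inv)) ≫ inv (μ Ψ' a a.inv) := by rw [ht]
        _ = _ := by rw [h3]; simp only [Category.assoc]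
    rw [tensorHom_def', iha, hu] at key
    rw [← cancel_mono (θobj hP Ψ Ψ' τ a ▷ Ψ'.obj a.inv), key]
    simp

end Groth.Agent.Lib.Helper5.PicFree

namespace Groth.Agent.Lib.Helper5.PicFree

open CategoryTheory MonoidalCategory

theorem main
    (A : Type u) [Category.{v} A] [MonoidalCategory A] [SymmetricCategory A] [IsGroupoid A] :
    ∃ (V : Type u) (_ : Category.{max u v} V) (_ : MonoidalCategory V) (_ : SymmetricCategory V)
      (i : A ⥤ V) (_ : i.LaxBraided),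
      IsGroupoid V ∧ (∀ X : V, (tensorLeft X).IsEquivalence ∧ (tensorRight X).IsEquivalence) ∧
      ∀ (P : Type u') [Category.{v'} P] [MonoidalCategory P] [SymmetricCategory P] [IsGroupoid P],
        (∀ X : P, (tensorLeft X).IsEquivalence ∧ (tensorRight X).IsEquivalence) →
        (∀ (Φ : A ⥤ P) [Φ.LaxBraided], ∃ (Ψ : V ⥤ P) (_ : Ψ.LaxBraided) (η : i ⋙ Ψ ≅ Φ),
            NatTrans.IsMonoidal η.hom) ∧
        (∀ (Ψ Ψ' : V ⥤ P) [Ψ.LaxBraided] [Ψ'.LaxBraided] (τ : i ⋙ Ψ ⟶ i ⋙ Ψ'),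
            NatTrans.IsMonoidal τ →
              ∃! θ : Ψ ⟶ Ψ', NatTrans.IsMonoidal θ ∧ Functor.whiskerLeft i θ = τ) := by
  refine ⟨PObj A, inferInstance, inferInstance, inferInstance, incl A, inferInstance, inferInstance,
    picard, ?_⟩
  intro P _ _ _ _ hP
  refine ⟨?_, ?_⟩
  · intro Φ _
    exact ⟨proj hP Φ, inferInstance, projIso hP Φ, projIso_monoidal hP Φ⟩
  · intro Ψ Ψ' _ _ τ hτ
    haveI := hτ
    refine ⟨θnat hP Ψ Ψ' τ, ⟨θnat_monoidal hP Ψ Ψ' τ, θnat_whisker hP Ψ Ψ' τ⟩, ?_⟩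
    rintro θ' ⟨h1, h2⟩
    ext a
    exact θ_unique hP Ψ Ψ' τ θ' h1 h2 a

end Groth.Agent.Lib.Helper5.PicFree
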